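import Groth.Agent.Hensel.Branches
import Groth.Agent.S0549
import Mathlib

/-!
# The fraction field of a henselian discrete valuation ring is separably closed in its completion
-/

set_option autoImplicit false
set_option linter.style.haveILetI false

universe u

open IsLocalRing Polynomial
open scoped TensorProduct

namespace Groth.Agent.HensComplete

variable (R K Rh Kh : Type u) [CommRing R] [IsDomain R] [IsDiscreteValuationRing R] [HenselianLocalRing R]
  [Field K] [Algebra R K] [IsFractionRing R K]
  [CommRing Rh] [IsDomain Rh] [IsDiscreteValuationRing Rh] [Algebra R Rh]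
  [Field Kh] [Algebra Rh Kh] [IsFractionRing Rh Kh] [Algebra R Kh] [IsScalarTower R Rh Kh]
  [Algebra K Kh] [IsScalarTower R K Kh]
  (hm : maximalIdeal Rh = (maximalIdeal R).map (algebraMap R Rh))
  (hres : ∀ y : Rh, ∃ a : R, y - algebraMap R Rh a ∈ maximalIdeal Rh)

include hm hres in
/-- The fraction field of a henselian DVR is separably closed in the completion. -/
theorem mem_range_of_isSeparable (x : Kh) (hx : IsSeparable K x) : x ∈ (algebraMap K Kh).range := by
  classical
  let L := IntermediateField.adjoin K ({x} : Set Kh)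
  haveI : FiniteDimensional K L := IntermediateField.adjoin.finiteDimensional hx.isIntegral
  haveI : Algebra.IsSeparable K L := (IntermediateField.isSeparable_adjoin_simple_iff_isSeparable K Kh).2 hx
  let C := integralClosure R L
  haveI : Module.Finite R C := IsIntegralClosure.finite R K L C
  haveI : IsDedekindDomain C := IsIntegralClosure.isDedekindDomain R K L C
  haveI : IsFractionRing C L := IsIntegralClosure.isFractionRing_of_finite_extension R K L C
  haveI : IsLocalRing C := Hensel.isLocalRing_of_integral_domain R C
  haveI : IsNoetherianRing C := inferInstance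
  haveI : ValuationRing C := by
    have h := (tfae_of_isNoetherianRing_of_isLocalRing_of_isDomain C).out 2 1
    exact h.mp ‹IsDedekindDomain C›
  have hint : ∀ c : C, ∃ y : Rh, algebraMap Rh Kh y = ((c : L) : Kh) := fun c =>
    IsIntegrallyClosed.isIntegral_iff.1 ((c.2.map (L.val.restrictScalars R)).tower_top)
  choose f hf using hint
  let fC : C →+* Rh :=
    { toFun := f
      map_one' := IsFractionRing.injective Rh Kh (by rw [hf, map_one]; rfl)
      map_mul' := fun a b => IsFractionRing.injective Rh Kh (by rw [map_mul, hf, hf, hf]; rfl)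
      map_zero' := IsFractionRing.injective Rh Kh (by rw [hf, map_zero]; rfl)
      map_add' := fun a b => IsFractionRing.injective Rh Kh (by rw [map_add, hf, hf, hf]; rfl) }
  have hfR : ∀ a, fC (algebraMap R C a) = algebraMap R Rh a := fun a => IsFractionRing.injective Rh Kh (by
    show algebraMap Rh Kh (f _) = _
    rw [hf, ← IsScalarTower.algebraMap_apply R Rh Kh]
    rfl)
  have hloc : ∀ c, IsUnit (fC c) → IsUnit c := by
    intro c hc
    haveI : ((maximalIdeal Rh).comap fC).IsPrime := Ideal.IsPrime.comap fC
    have h1 : ((maximalIdeal Rh).comap fC).comap (algebraMap R C) = maximalIdeal R := by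
      refine (le_antisymm (le_maximalIdeal (Ideal.IsPrime.comap _).ne_top) fun a ha => ?_)
      rw [Ideal.mem_comap, Ideal.mem_comap, hfR, hm]
      exact Ideal.mem_map_of_mem _ ha
    haveI : ((maximalIdeal Rh).comap fC).IsMaximal :=
      Ideal.isMaximal_of_isIntegral_of_isMaximal_comap _ (by rw [h1]; infer_instance)
    by_contra hnc
    have h2 : c ∈ (maximalIdeal Rh).comap fC :=
      (IsLocalRing.eq_maximalIdeal (I := (maximalIdeal Rh).comap fC) inferInstance).ge hnc
    exact (mem_maximalIdeal _).1 h2 hc
  obtain ⟨π, hπ⟩ := IsDiscreteValuationRing.exists_irreducible R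
  have hmh : maximalIdeal Rh = Ideal.span {algebraMap R Rh π} := by
    rw [hm, hπ.maximalIdeal_eq, Ideal.map_span, Set.image_singleton]
  have hinjR : Function.Injective (algebraMap R C) := fun a b h => by
    have h' : algebraMap R L a = algebraMap R L b := congrArg Subtype.val h
    rw [IsScalarTower.algebraMap_apply R K L, IsScalarTower.algebraMap_apply R K L] at h'
    exact IsFractionRing.injective R K ((algebraMap K L).injective h')
  have htop : (⊤ : Submodule R C) ≤ Submodule.span R {(1 : C)} ⊔ (maximalIdeal R) • (⊤ : Submodule R C) := by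
    intro c _
    obtain ⟨a, ha⟩ := hres (fC c)
    rw [hmh, Ideal.mem_span_singleton'] at ha
    obtain ⟨w, hw⟩ := ha
    rcases ValuationRing.cond (c - algebraMap R C a) (algebraMap R C π) with ⟨e, he | he⟩
    · -- `c - a` divides `π`
      have h1 : fC e * w = 1 := by
        have h2 := congrArg fC he
        rw [map_mul, map_sub, hfR, hfR, ← hw] at h2
        have hπ0 : algebraMap R Rh π ≠ 0 := fun h0 => IsDiscreteValuationRing.not_a_field Rh (by
          rw [hmh, h0, Ideal.span_singleton_eq_bot])
        refine mul_left_cancel₀ hπ0 ?_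
        linear_combination h2
      obtain ⟨u, hu⟩ := hloc e (IsUnit.of_mul_eq_one _ h1)
      rw [← hu] at he
      rw [show c = (a • (1 : C)) + π • (↑u⁻¹ : C) by
        rw [Algebra.smul_def, mul_one, Algebra.smul_def, ← he, Units.mul_inv_cancel_right]; ring]
      exact Submodule.add_mem_sup (Submodule.smul_mem _ _ (Submodule.mem_span_singleton_self _))
        (Submodule.smul_mem_smul (hπ.maximalIdeal_eq ▸ Ideal.mem_span_singleton_self π) Submodule.mem_top)
    · rw [show c = (a • (1 : C)) + π • e by rw [Algebra.smul_def, mul_one, Algebra.smul_def, he]; ring]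
      exact Submodule.add_mem_sup (Submodule.smul_mem _ _ (Submodule.mem_span_singleton_self _))
        (Submodule.smul_mem_smul (hπ.maximalIdeal_eq ▸ Ideal.mem_span_singleton_self π) Submodule.mem_top)
  have hspan : (⊤ : Submodule R C) ≤ Submodule.span R {(1 : C)} :=
    Submodule.le_of_le_smul_of_le_jacobson_bot Module.Finite.fg_top
      (IsLocalRing.jacobson_eq_maximalIdeal ⊥ bot_ne_top).ge htop
  obtain ⟨⟨c, d⟩, hd⟩ := IsLocalization.surj (nonZeroDivisors C)
    (⟨x, IntermediateField.mem_adjoin_simple_self K x⟩ : L)
  obtain ⟨a, ha⟩ := Submodule.mem_span_singleton.1 (hspan (Submodule.mem_top (x := c)))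
  obtain ⟨b, hb⟩ := Submodule.mem_span_singleton.1 (hspan (Submodule.mem_top (x := (d : C))))
  have hb0 : algebraMap R K b ≠ 0 := fun h => nonZeroDivisors.coe_ne_zero d (by
    rw [← hb, show b = 0 from IsFractionRing.injective R K (h.trans (map_zero _).symm), zero_smul])
  refine ⟨algebraMap R K a / algebraMap R K b, ?_⟩
  rw [map_div₀, div_eq_iff ((_root_.map_ne_zero _).2 hb0), ← IsScalarTower.algebraMap_apply, ← IsScalarTower.algebraMap_apply]
  have h1 := congrArg (fun l : L => (l : Kh)) hd
  simp only [← ha, ← hb, Algebra.smul_def, mul_one] at h1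
  exact h1.symm

include hm hres in
/-- Finite separable extensions stay fields after completion. -/
theorem isField_baseChange (L : Type u) [Field L] [Algebra K L] [FiniteDimensional K L] [Algebra.IsSeparable K L] :
    IsField (Kh ⊗[K] L) := by
  classical
  obtain ⟨α, hα⟩ := Field.exists_primitive_element K L
  let p := minpoly K α
  have hint : IsIntegral K α := IsIntegral.of_finite K α
  have hirr : Irreducible (p.map (algebraMap K Kh)) := by
    obtain ⟨g, hg, hgd⟩ := WfDvdMonoid.exists_irreducible_factor (a := p.map (algebraMap K Kh))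
      (fun h => (minpoly.degree_pos hint).ne' (by
        have h0 := Polynomial.isUnit_iff_degree_eq_zero.1 h
        rwa [Polynomial.degree_map] at h0))
      (Polynomial.map_ne_zero (minpoly.ne_zero hint))
    let g' := normalize g
    have hg'm : g'.Monic := Polynomial.monic_normalize hg.ne_zero
    have hg'd : g' ∣ p.map (algebraMap K Kh) := normalize_dvd_iff.2 hgd
    let Ω := AlgebraicClosure Kh
    let S := separableClosure K Ω
    have hroots : ∀ r ∈ (g'.map (algebraMap Kh Ω)).roots, r ∈ S := by
      intro r hr
      rw [mem_separableClosure_iff]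
      have h1 : (p.map (algebraMap K Ω)).IsRoot r := by
        rw [IsScalarTower.algebraMap_eq K Kh Ω, ← Polynomial.map_map]
        exact Polynomial.IsRoot.dvd (Polynomial.mem_roots'.1 hr).2 (Polynomial.map_dvd _ hg'd)
      exact Polynomial.Separable.of_dvd (Algebra.IsSeparable.isSeparable K α)
        (minpoly.dvd K r (by rwa [Polynomial.IsRoot.def, Polynomial.eval_map_algebraMap] at h1))
    have hlift : g'.map (algebraMap Kh Ω) ∈ Polynomial.lifts (algebraMap S Ω) := by
      rw [(IsAlgClosed.splits _).eq_prod_roots_of_monic (hg'm.map _)]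
      refine Subsemiring.multiset_prod_mem _ _ fun q hq => ?_
      obtain ⟨r, hr, rfl⟩ := Multiset.mem_map.1 hq
      exact (Polynomial.mem_lifts _).2 ⟨X - C ⟨r, hroots r hr⟩, by simp⟩
    have hcoeff : ∀ n, g'.coeff n ∈ (algebraMap K Kh).range := fun n => by
      refine mem_range_of_isSeparable R K Rh Kh hm hres _ ?_
      obtain ⟨s, hs⟩ := (Polynomial.lifts_iff_coeff_lifts _).1 hlift n
      rw [Polynomial.coeff_map] at hs
      have h1 : IsSeparable K (algebraMap Kh Ω (g'.coeff n)) := by
        rw [← hs]; exact mem_separableClosure_iff.1 s.2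
      rwa [IsSeparable, ← IsScalarTower.toAlgHom_apply K Kh Ω,
        minpoly.algHom_eq _ (algebraMap Kh Ω).injective] at h1
    obtain ⟨q, hq, -, hqm⟩ := Polynomial.lifts_and_degree_eq_and_monic
      ((Polynomial.lifts_iff_coeff_lifts _).2 hcoeff) hg'm
    have hqp : q ∣ p := (Polynomial.map_dvd_map' (algebraMap K Kh)).1 (hq.symm ▸ hg'd)
    have hq1 : ¬ IsUnit q := fun h => (hg.not_isUnit) (by
      have h2 : IsUnit g' := hq ▸ h.map (Polynomial.mapRingHom (algebraMap K Kh))
      exact (associated_normalize g).isUnit_iff.2 h2)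
    have hqe : q = p := Polynomial.eq_of_monic_of_associated hqm (minpoly.monic hint)
      (((minpoly.irreducible hint).dvd_iff.1 hqp).resolve_left hq1).symm
    rw [← hqe, hq]
    exact (associated_normalize g).irreducible_iff.1 hg
  haveI : Fact (Irreducible (p.map (algebraMap K Kh))) := ⟨hirr⟩
  let M := AdjoinRoot (p.map (algebraMap K Kh))
  let r : M := AdjoinRoot.root _
  have hr : Polynomial.aeval r p = 0 := by
    rw [← Polynomial.aeval_map_algebraMap Kh]
    exact (AdjoinRoot.aeval_eq _).trans AdjoinRoot.mk_self
  let pb := Field.exists_primitive_element K L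
  have hαtop : Algebra.adjoin K ({α} : Set L) = ⊤ := by
    rw [← IntermediateField.adjoin_simple_toSubalgebra_of_isAlgebraic hint.isAlgebraic, hα,
      IntermediateField.top_toSubalgebra]
  let B := PowerBasis.ofAdjoinEqTop hint hαtop
  let ψ : L →ₐ[K] M := B.lift r (by
    rw [show B.gen = α from PowerBasis.ofAdjoinEqTop_gen hint hαtop]; exact hr)
  let φ : Kh ⊗[K] L →ₐ[Kh] M := Algebra.TensorProduct.lift (Algebra.ofId Kh M) ψ fun _ _ => mul_comm _ _
  have hsurj : Function.Surjective φ := by
    rw [← AlgHom.range_eq_top, eq_top_iff, ← AdjoinRoot.adjoinRoot_eq_top, Algebra.adjoin_le_iff,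
      Set.singleton_subset_iff]
    refine ⟨1 ⊗ₜ α, ?_⟩
    refine (Algebra.TensorProduct.lift_tmul _ _ _ _ _).trans ?_
    rw [map_one, one_mul]
    exact (congrArg ψ (PowerBasis.ofAdjoinEqTop_gen hint hαtop).symm).trans (B.lift_gen r _)
  have hdim : Module.finrank Kh (Kh ⊗[K] L) = Module.finrank Kh M := by
    rw [Module.finrank_baseChange, (AdjoinRoot.powerBasis hirr.ne_zero).finrank, AdjoinRoot.powerBasis_dim,
      Polynomial.natDegree_map, ← IntermediateField.adjoin.finrank hint, hα, IntermediateField.finrank_top']
  haveI : FiniteDimensional Kh M := (AdjoinRoot.powerBasis hirr.ne_zero).finite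
  have hbij : Function.Bijective φ :=
    ⟨(LinearMap.injective_iff_surjective_of_finrank_eq_finrank hdim (f := φ.toLinearMap)).2 hsurj, hsurj⟩
  exact (AlgEquiv.ofBijective φ hbij).toMulEquiv.isField (Field.toIsField M)

end Groth.Agent.HensComplete
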