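import Groth.Agent.HensComplete.Field
import Groth.Agent.TauTriv.Model
import Groth.Agent.Purity.CompFF
import Groth.Prelude.Def_FEt
import Mathlib

/-!
# Finite étale covers along a field extension in which finite separable extensions stay fields
-/

set_option autoImplicit false
set_option linter.style.haveILetI false
set_option backward.isDefEq.respectTransparency false
set_option maxHeartbeats 1000000

universe u

open CategoryTheory CategoryTheory.Limits AlgebraicGeometry
open scoped TensorProduct

namespace Groth.Agent.HensComplete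

/-- A prime of a product of fields is the kernel of a projection. -/
theorem exists_prime_pi {I : Type u} [Finite I] (F : I → Type u) [∀ i, CommRing (F i)] (hF : ∀ i, IsField (F i))
    (q : Ideal (Π i, F i)) [q.IsPrime] :
    ∃ i, (∀ v, v ∈ q ↔ v i = 0) := by
  classical
  haveI := Fintype.ofFinite I
  obtain ⟨i, hi⟩ : ∃ i, Pi.single i (1 : F i) ∉ q := by
    by_contra h
    push Not at h
    refine (inferInstance : q.IsPrime).ne_top ((Ideal.eq_top_iff_one _).2 ?_)
    rw [← Finset.univ_sum_single (1 : Π i, F i)]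
    exact Ideal.sum_mem _ fun i _ => h i
  refine ⟨i, fun v => ⟨fun hv => ?_, fun hv => ?_⟩⟩
  · by_contra h0
    obtain ⟨w, hw⟩ := (hF i).mul_inv_cancel h0
    refine hi ?_
    rw [show Pi.single i (1 : F i) = v * Pi.single i w from funext fun j => by
      rcases eq_or_ne j i with rfl | hj
      · simp [hw]
      · simp [hj]]
    exact q.mul_mem_right _ hv
  · refine ((inferInstance : q.IsPrime).mem_or_mem (?_ : v * Pi.single i 1 ∈ q)).resolve_right hi
    rw [show v * Pi.single i (1 : F i) = 0 from funext fun j => by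
      rcases eq_or_ne j i with rfl | hj
      · simp [hv]
      · simp [hj]]
    exact q.zero_mem

variable (K Kh : Type u) [Field K] [Field Kh] [Algebra K Kh]
  (hfield : ∀ (L : Type u) [Field L] [Algebra K L] [FiniteDimensional K L] [Algebra.IsSeparable K L],
    IsField (Kh ⊗[K] L))

include hfield in
theorem bijective_comap (E : Type u) [CommRing E] [Algebra K E] [Algebra.Etale K E] :
    Function.Bijective (PrimeSpectrum.comap
      (Algebra.TensorProduct.includeRight : E →ₐ[K] Kh ⊗[K] E).toRingHom) := by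
  classical
  haveI : Module.Finite K E := Algebra.FormallyUnramified.finite_of_free K E
  obtain ⟨I, _, L, _, _, e, hsep⟩ := (Algebra.FormallyEtale.iff_exists_algEquiv_prod (K := K) (A := E)).1 inferInstance
  haveI := Fintype.ofFinite I
  haveI : ∀ i, FiniteDimensional K (L i) := fun i =>
    Module.Finite.of_surjective ((Pi.evalAlgHom K L i).comp e.toAlgHom).toLinearMap
      ((Function.surjective_eval i).comp e.surjective)
  haveI := hsep
  let F := fun i => Kh ⊗[K] L i
  let e' : Kh ⊗[K] E ≃ₐ[K] (Π i, F i) :=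
    (Algebra.TensorProduct.congr AlgEquiv.refl e).trans (Algebra.TensorProduct.piRight K K Kh L)
  have hF : ∀ i, IsField (F i) := fun i => hfield (L i)
  have he' : ∀ x i, e' ((1 : Kh) ⊗ₜ x) i = (1 : Kh) ⊗ₜ[K] e x i := fun x i => by
    show (Algebra.TensorProduct.piRight K K Kh L) ((1 : Kh) ⊗ₜ e x) i = _
    rw [Algebra.TensorProduct.piRight_tmul]
  have hker : ∀ i x, e' ((1 : Kh) ⊗ₜ x) i = 0 ↔ e x i = 0 := fun i x => by
    rw [he']
    exact map_eq_zero_iff (Algebra.TensorProduct.includeRight : L i →ₐ[K] Kh ⊗[K] L i)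
      (Algebra.TensorProduct.includeRight_injective (algebraMap K Kh).injective)
  have key : ∀ q : PrimeSpectrum (Kh ⊗[K] E), ∃ i, (∀ z, z ∈ q.asIdeal ↔ e' z i = 0) := fun q => by
    obtain ⟨i, hi⟩ := exists_prime_pi F hF (q.asIdeal.comap (e'.symm : (Π i, F i) →+* Kh ⊗[K] E))
    exact ⟨i, fun z => by simpa using hi (e' z)⟩
  have keyE : ∀ p : PrimeSpectrum E, ∃ i, (∀ x, x ∈ p.asIdeal ↔ e x i = 0) := fun p => by
    obtain ⟨i, hi⟩ := exists_prime_pi L (fun i => Field.toIsField _) (p.asIdeal.comap (e.symm : (Π i, L i) →+* E))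
    exact ⟨i, fun z => by simpa using hi (e z)⟩
  refine ⟨fun q q' h => ?_, fun p => ?_⟩
  · obtain ⟨i, hi⟩ := key q
    obtain ⟨i', hi'⟩ := key q'
    have hii : i = i' := by
      by_contra hne
      have h1 : e.symm (Pi.single i 1) ∈ (PrimeSpectrum.comap
          (Algebra.TensorProduct.includeRight : E →ₐ[K] Kh ⊗[K] E).toRingHom q').asIdeal :=
        (hi' _).2 (by
          show e' ((1 : Kh) ⊗ₜ _) i' = 0
          rw [hker, AlgEquiv.apply_symm_apply, Pi.single_eq_of_ne (Ne.symm hne)])
      rw [← h] at h1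
      have h2 : e' ((1 : Kh) ⊗ₜ e.symm (Pi.single i 1)) i = 0 := (hi _).1 h1
      rw [hker, AlgEquiv.apply_symm_apply, Pi.single_eq_same] at h2
      exact one_ne_zero h2
    exact PrimeSpectrum.ext (SetLike.ext fun z => by rw [hi, hi', hii])
  · obtain ⟨i, hi⟩ := keyE p
    letI : Field (F i) := (hF i).toField
    let ev : Kh ⊗[K] E →+* F i := (Pi.evalRingHom F i).comp (e' : Kh ⊗[K] E →+* Π i, F i)
    haveI : (RingHom.ker ev).IsPrime := RingHom.ker_isPrime ev
    exact ⟨⟨RingHom.ker ev, inferInstance⟩, PrimeSpectrum.ext (SetLike.ext fun x => (hker i x).trans (hi x).symm)⟩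

include hfield in
theorem restrict_full_faithful :
    (FEt.restrict (Spec.map (CommRingCat.ofHom (algebraMap K Kh)))).Full ∧
      (FEt.restrict (Spec.map (CommRingCat.ofHom (algebraMap K Kh)))).Faithful := by
  refine Purity.restrict_full_faithful_of_clopen _ fun Z π hf he C hC => ?_
  haveI := hf
  haveI := he
  obtain ⟨E, _, _, a, hetE, hfinE, sq⟩ := TauTriv.exists_model π K (𝟙 _)
  haveI := hetE
  haveI := hfinE
  haveI : IsIso a := sq.isIso_fst_of_isIso
  have sq' := ((isPullback_SpecMap_of_isPushout _ _ _ _ (CommRingCat.isPushout_tensorProduct K Kh E)).flip.paste_horiz sq)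
  rw [Category.comp_id] at sq'
  let e := sq'.isoPullback
  have hbij : Function.Bijective (pullback.fst π (Spec.map (CommRingCat.ofHom (algebraMap K Kh)))) := by
    have h1 : pullback.fst π (Spec.map (CommRingCat.ofHom (algebraMap K Kh))) =
        e.inv ≫ Spec.map (CommRingCat.ofHom (Algebra.TensorProduct.includeRight : E →ₐ[K] Kh ⊗[K] E).toRingHom) ≫ a :=
      (IsPullback.isoPullback_inv_fst sq').symm
    rw [h1, Scheme.Hom.comp_base, Scheme.Hom.comp_base]
    simp only [TopCat.coe_comp]
    exact (a.homeomorph.bijective.comp (bijective_comap K Kh hfield E)).comp e.inv.homeomorph.bijective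
  haveI : DiscreteTopology (PrimeSpectrum E) := by
    haveI : IsArtinianRing E := IsArtinianRing.of_finite K E
    infer_instance
  haveI : DiscreteTopology (Spec (CommRingCat.of E)) := ‹DiscreteTopology (PrimeSpectrum E)›
  haveI : DiscreteTopology Z := a.homeomorph.discreteTopology
  exact ⟨_ '' C, ⟨isClopen_discrete _, hbij.1.preimage_image C⟩, fun W hW => by
    rw [← hW.2, hbij.2.image_preimage]⟩

include hfield in
theorem isEquivalence_restrict
    (hdesc : ∀ (M : Type u) [Field M] [Algebra Kh M] [FiniteDimensional Kh M] [Algebra.IsSeparable Kh M],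
      ∃ (L : Type u) (_ : Field L) (_ : Algebra K L), FiniteDimensional K L ∧ Algebra.IsSeparable K L ∧
        Nonempty ((Kh ⊗[K] L) ≃ₐ[Kh] M)) :
    (FEt.restrict (Spec.map (CommRingCat.ofHom (algebraMap K Kh)))).IsEquivalence := by
  classical
  obtain ⟨h1, h2⟩ := restrict_full_faithful K Kh hfield
  haveI := h1
  haveI := h2
  haveI : (FEt.restrict (Spec.map (CommRingCat.ofHom (algebraMap K Kh)))).EssSurj := ⟨fun Y' => by
    haveI : IsFinite Y'.hom := Y'.prop.1
    haveI : Etale Y'.hom := Y'.prop.2
    obtain ⟨E', _, _, a', hetE, hfinE, sq'⟩ := TauTriv.exists_model Y'.hom Kh (𝟙 _)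
    haveI := hetE
    haveI : IsIso a' := sq'.isIso_fst_of_isIso
    obtain ⟨I, _, M, _, _, e, hsep⟩ :=
      (Algebra.FormallyEtale.iff_exists_algEquiv_prod (K := Kh) (A := E')).1 inferInstance
    haveI := Fintype.ofFinite I
    haveI := hfinE
    haveI : ∀ i, FiniteDimensional Kh (M i) := fun i =>
      Module.Finite.of_surjective ((Pi.evalAlgHom Kh M i).comp e.toAlgHom).toLinearMap
        ((Function.surjective_eval i).comp e.surjective)
    haveI := hsep
    choose L iF iA hfd hsepL hiso using fun i => hdesc (M i)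
    let E := Π i, L i
    haveI : ∀ i, Algebra.Etale K (L i) := fun i => by
      haveI := hfd i
      haveI := hsepL i
      haveI : Algebra.FormallyEtale K (L i) := Algebra.FormallyEtale.of_isSeparable K (L i)
      exact ⟨inferInstance, (Algebra.FinitePresentation.of_finiteType).1 inferInstance⟩
    haveI : ∀ i, Module.Finite K (L i) := hfd
    let g := Spec.map (CommRingCat.ofHom (algebraMap K E))
    have hg : FEt.prop g := ⟨(IsFinite.SpecMap_iff _).2 (RingHom.finite_algebraMap.2 inferInstance),
      (HasRingHomProperty.Spec_iff (P := @Etale)).2 (RingHom.etale_algebraMap.2 inferInstance)⟩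
    let Y : FEt.Cat (Spec (CommRingCat.of K)) := MorphismProperty.Over.mk ⊤ g hg
    let eE : Kh ⊗[K] E ≃ₐ[Kh] E' := ((Algebra.TensorProduct.piRight K Kh Kh L).trans
      (AlgEquiv.piCongrRight fun i => (hiso i).some)).trans e.symm
    have sqY := (isPullback_SpecMap_of_isPushout _ _ _ _ (CommRingCat.isPushout_tensorProduct K Kh E)).flip
    let i₁ : ((FEt.restrict (Spec.map (CommRingCat.ofHom (algebraMap K Kh)))).obj Y).left ≅ Y'.left :=
      sqY.isoPullback.symm ≪≫ Scheme.Spec.mapIso (eE.symm.toRingEquiv.toCommRingCatIso.op) ≪≫ asIso a'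
    refine ⟨Y, ⟨MorphismProperty.Over.isoMk i₁ ?_⟩⟩
    show i₁.hom ≫ Y'.hom = pullback.snd g (Spec.map (CommRingCat.ofHom (algebraMap K Kh)))
    rw [← IsPullback.isoPullback_inv_snd sqY]
    simp only [i₁, Iso.trans_hom, Iso.symm_hom, asIso_hom, Category.assoc, sq'.w, Category.comp_id]
    refine congrArg (sqY.isoPullback.inv ≫ ·) ?_
    show Spec.map _ ≫ Spec.map _ = Spec.map _
    rw [← Spec.map_comp]
    exact congrArg Spec.map (CommRingCat.hom_ext (RingHom.ext fun x => eE.symm.commutes x))⟩
  exact { }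

end Groth.Agent.HensComplete
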